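import Cfsg.Agent.H198.FC.Defs
import Cfsg.Agent.LieClassical.SLGen

/-!
# S5764, L-T3: three conjugates for the subgroup of index two are enough (helper55)

* `exists_fourth` : abstract group theory;
* `five_abs` : `T` simple, `S ≤ Aut(T)` solvable;
* `five_of_three` : the version for `S ≤ RA K V`, `dim V ≥ 3`.
-/

set_option autoImplicit false
set_option linter.unusedVariables false
set_option linter.unusedSectionVars false

namespace Cfsg.Agent.H55.FC

open Cfsg.Agent.H198.FC Matrix Module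
open scoped commutatorElement

universe u v

/-! ### Abstract part -/

theorem exists_fourth {P : Type*} [Group P] (S R' : Subgroup P)
    (h2 : ∀ f ∈ S, ∀ g ∈ S, f ∉ R' → g ∉ R' → f * g ∈ R') {m : ℕ} (c : Fin m → P)
    (hc : ∀ f ∈ S, f ∈ R' → (∀ i, c i * f * (c i)⁻¹ ∈ S) → f = 1) (C : Set P) (h1 : (1 : P) ∈ C)
    (hC : ∀ κ ∈ S, κ ∉ R' → ∃ x ∈ C, x * κ * x⁻¹ ∉ S) :
    ∃ x ∈ C, ∀ f ∈ S, (∀ i, c i * f * (c i)⁻¹ ∈ S) → x * f * x⁻¹ ∈ S → f = 1 := by
  by_cases hκ : ∃ κ ∈ S, κ ≠ 1 ∧ ∀ i, c i * κ * (c i)⁻¹ ∈ S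
  · obtain ⟨κ, hκS, hκ1, hκc⟩ := hκ
    have hκR : κ ∉ R' := fun h => hκ1 (hc κ hκS h hκc)
    obtain ⟨x, hxC, hx⟩ := hC κ hκS hκR
    refine ⟨x, hxC, fun f hf hfc hfx => ?_⟩
    by_contra hf1
    have hfR : f ∉ R' := fun h => hf1 (hc f hf h hfc)
    have key : ∀ g ∈ S, g ∉ R' → (∀ i, c i * g * (c i)⁻¹ ∈ S) → g * κ = 1 := by
      intro g hg hgR hgc
      refine hc _ (mul_mem hg hκS) (h2 g hg κ hκS hgR hκR) fun i => ?_
      have h3 := mul_mem (hgc i) (hκc i)
      have h4 : c i * g * (c i)⁻¹ * (c i * κ * (c i)⁻¹) = c i * (g * κ) * (c i)⁻¹ := by group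
      rwa [h4] at h3
    have h5 := key f hf hfR hfc
    have h6 := key κ hκS hκR hκc
    have h7 : f = κ := mul_right_cancel (h5.trans h6.symm)
    exact hx (h7 ▸ hfx)
  · push Not at hκ
    refine ⟨1, h1, fun f hf hfc _ => ?_⟩
    by_contra hf1
    obtain ⟨i, hi⟩ := hκ f hf hf1
    exact hi (hfc i)

/-- the subgroup generated by the commutators `[c, κ]`, `c ∈ C` -/
def comS {P : Type*} [Group P] (C : Subgroup P) (κ : P) : Subgroup P :=
  Subgroup.closure {g | ∃ c ∈ C, g = c * κ * c⁻¹ * κ⁻¹}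

theorem comS_le {P : Type*} [Group P] {C S : Subgroup P} {κ : P} (hκ : κ ∈ S) (h : ∀ c ∈ C, c * κ * c⁻¹ ∈ S) :
    comS C κ ≤ S := by
  rw [comS, Subgroup.closure_le]
  rintro _ ⟨c, hc, rfl⟩
  exact mul_mem (h c hc) (inv_mem hκ)

theorem comS_norm {P : Type*} [Group P] {C : Subgroup P} {κ : P} {c : P} (hc : c ∈ C) {f : P} (hf : f ∈ comS C κ) :
    c * f * c⁻¹ ∈ comS C κ := by
  induction hf using Subgroup.closure_induction with
  | mem y hy =>
    obtain ⟨d, hd, rfl⟩ := hy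
    have h1 : c * d * κ * (c * d)⁻¹ * κ⁻¹ ∈ comS C κ := Subgroup.subset_closure ⟨c * d, mul_mem hc hd, rfl⟩
    have h2 : c * κ * c⁻¹ * κ⁻¹ ∈ comS C κ := Subgroup.subset_closure ⟨c, hc, rfl⟩
    have h3 := mul_mem h1 (inv_mem h2)
    have h4 : c * d * κ * (c * d)⁻¹ * κ⁻¹ * (c * κ * c⁻¹ * κ⁻¹)⁻¹ = c * (d * κ * d⁻¹ * κ⁻¹) * c⁻¹ := by group
    rwa [h4] at h3
  | one => rw [mul_one, mul_inv_cancel]; exact one_mem _
  | mul x y _ _ hx hy =>
    have h3 := mul_mem hx hy
    have h4 : c * x * c⁻¹ * (c * y * c⁻¹) = c * (x * y) * c⁻¹ := by group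
    rwa [h4] at h3
  | inv x _ hx =>
    have h3 := inv_mem hx
    have h4 : (c * x * c⁻¹)⁻¹ = c * x⁻¹ * c⁻¹ := by group
    rwa [h4] at h3

/-- **L-T3, abstract version**: `T` simple non-abelian, `S ≤ Aut(T)` solvable, `S ∩ S₁` of index at most two in `S`. -/
theorem five_abs {T : Type u} [Group T] [IsSimpleGroup T] (hna : ∃ a b : T, a * b ≠ b * a) (S S1 : Subgroup (MulAut T))
    (hS : Group.IsSolvable S) (h2 : ∀ f ∈ S, ∀ g ∈ S, f ∉ S1 → g ∉ S1 → f * g ∈ S1) (x : Fin 3 → T)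
    (hx : ∀ α ∈ S, α ∈ S1 → (∀ i, MulAut.conj (x i) * α * (MulAut.conj (x i))⁻¹ ∈ S) → α = 1) :
    ∃ y : Fin 4 → T, ∀ α ∈ S, (∀ i, MulAut.conj (y i) * α * (MulAut.conj (y i))⁻¹ ∈ S) → α = 1 := by
  have hZ : Subgroup.center T = ⊥ := by
    rcases (inferInstance : (Subgroup.center T).Normal).eq_bot_or_eq_top with h | h
    · exact h
    · obtain ⟨a, b, hab⟩ := hna
      have h1 : a ∈ Subgroup.center T := by rw [h]; trivial
      exact absurd (Subgroup.mem_center_iff.1 h1 b).symm hab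
  have hinj : Function.Injective (MulAut.conj : T →* MulAut T) := by
    rw [injective_iff_map_eq_one]
    intro s hs
    have h1 : s ∈ Subgroup.center T := by
      rw [Subgroup.mem_center_iff]
      intro g
      have h2 : MulAut.conj s g = g := by rw [hs]; rfl
      rw [MulAut.conj_apply] at h2
      exact (mul_inv_eq_iff_eq_mul.1 h2).symm
    rwa [hZ, Subgroup.mem_bot] at h1
  have hmc : ∀ (a : MulAut T) (s : T), a * MulAut.conj s = MulAut.conj (a s) * a := by
    intro a s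
    ext z
    simp [MulAut.mul_apply]
  obtain ⟨_, ⟨y, rfl⟩, hy⟩ := exists_fourth S S1 h2 (fun i => MulAut.conj (x i)) hx
    ((MulAut.conj : T →* MulAut T).range : Set (MulAut T)) (one_mem _) (by
    intro κ hκ hκ1
    by_contra hcon
    push Not at hcon
    set C : Subgroup (MulAut T) := (MulAut.conj : T →* MulAut T).range with hC
    have hNS : comS C κ ≤ S := comS_le hκ hcon
    have hNC : comS C κ ≤ C := by
      rw [comS, Subgroup.closure_le]
      rintro _ ⟨_, ⟨t, rfl⟩, rfl⟩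
      rw [← map_inv, mul_assoc (MulAut.conj t), hmc, mul_assoc, mul_inv_cancel_right, ← map_mul]
      exact MonoidHom.mem_range.2 ⟨_, rfl⟩
    have hN : ((comS C κ).comap (MulAut.conj : T →* MulAut T)).Normal := ⟨fun n hn g => by
      rw [Subgroup.mem_comap] at hn ⊢
      rw [map_mul, map_mul, map_inv]
      exact comS_norm (C := C) ⟨g, rfl⟩ hn⟩
    have hNsol : Group.IsSolvable (comS C κ) :=
      Group.isSolvable_of_isSolvable_injective (Subgroup.inclusion_injective hNS)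
    rcases hN.eq_bot_or_eq_top with h | h
    · have hbot : comS C κ = ⊥ := by
        rw [eq_bot_iff]
        intro f hf
        obtain ⟨t, rfl⟩ := hNC hf
        have h3 : t ∈ (comS C κ).comap (MulAut.conj : T →* MulAut T) := hf
        rw [h, Subgroup.mem_bot] at h3
        rw [h3, map_one]
        exact one_mem _
      apply hκ1
      have h4 : κ = 1 := by
        ext t
        have h5 : MulAut.conj t * κ * (MulAut.conj t)⁻¹ * κ⁻¹ ∈ comS C κ := Subgroup.subset_closure ⟨_, ⟨t, rfl⟩, rfl⟩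
        rw [hbot, Subgroup.mem_bot, mul_inv_eq_one, mul_inv_eq_iff_eq_mul, hmc] at h5
        exact (hinj (mul_right_cancel h5)).symm
      rw [h4]
      exact one_mem _
    · have h3 : ∀ t : T, MulAut.conj t ∈ comS C κ := fun t => by
        have : t ∈ (comS C κ).comap (MulAut.conj : T →* MulAut T) := by rw [h]; trivial
        exact this
      have h4 : Group.IsSolvable T := Group.isSolvable_of_isSolvable_injective
        (f := (MulAut.conj : T →* MulAut T).codRestrict (comS C κ) h3)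
        (fun a b hab => hinj (congrArg Subtype.val hab))
      obtain ⟨a, b, hab⟩ := hna
      exact hab (IsSimpleGroup.comm_iff_isSolvable.2 h4 a b))
  refine ⟨Fin.cons y x, fun α hα h => hy α hα (fun i => ?_) ?_⟩
  · have h3 := h i.succ
    rwa [Fin.cons_succ] at h3
  · have h3 := h 0
    rwa [Fin.cons_zero] at h3

/-! ### `SL` -/

/-- a normal subgroup of `SL_n`, `n ≥ 3`, is central or everything -/
theorem sl_alt {ι F : Type*} [Field F] [DecidableEq ι] [Fintype ι] (h3 : 3 ≤ Fintype.card ι)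
    (N : Subgroup (SpecialLinearGroup ι F)) [hN : N.Normal] :
    N ≤ Subgroup.center (SpecialLinearGroup ι F) ∨ N = ⊤ := by
  have hs := LieClassical.SLGen.psl_isSimpleGroup (F := F) h3
  have hp := LieClassical.SLGen.commutator_eq_top (F := F) h3
  let π := QuotientGroup.mk' (Subgroup.center (SpecialLinearGroup ι F))
  have hM : (N.map π).Normal := hN.map π (QuotientGroup.mk'_surjective _)
  rcases @IsSimpleGroup.eq_bot_or_eq_top_of_normal _ _ hs (N.map π) hM with h | h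
  · left
    rw [Subgroup.map_eq_bot_iff, QuotientGroup.ker_mk'] at h
    exact h
  · right
    rw [eq_top_iff, ← hp, _root_.commutator_def, Subgroup.commutator_le]
    have hdec : ∀ a : SpecialLinearGroup ι F, ∃ m ∈ N, ∃ z ∈ Subgroup.center (SpecialLinearGroup ι F), a = m * z := by
      intro a
      have h4 : π a ∈ N.map π := by rw [h]; trivial
      obtain ⟨m, hm, hma⟩ := h4
      refine ⟨m, hm, m⁻¹ * a, ?_, by group⟩
      exact QuotientGroup.eq.1 hma
    intro a _ b _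
    obtain ⟨m, hm, z, hz, rfl⟩ := hdec a
    obtain ⟨m', hm', z', hz', rfl⟩ := hdec b
    have e1 : ∀ g, z * g = g * z := fun g => (Subgroup.mem_center_iff.1 hz g).symm
    have e2 : ∀ g, z' * g = g * z' := fun g => (Subgroup.mem_center_iff.1 hz' g).symm
    have e3 : ⁅m * z, m' * z'⁆ = m * m' * m⁻¹ * m'⁻¹ := by
      rw [commutatorElement_def]
      calc m * z * (m' * z') * (m * z)⁻¹ * (m' * z')⁻¹
          = m * (z * (m' * z')) * z⁻¹ * m⁻¹ * (z'⁻¹ * m'⁻¹) := by group
        _ = m * (m' * z' * z) * z⁻¹ * m⁻¹ * (z'⁻¹ * m'⁻¹) := by rw [e1]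
        _ = m * m' * (z' * m⁻¹) * z'⁻¹ * m'⁻¹ := by group
        _ = m * m' * (m⁻¹ * z') * z'⁻¹ * m'⁻¹ := by rw [e2]
        _ = m * m' * m⁻¹ * m'⁻¹ := by group
    rw [e3]
    have h5 : m * m' * m⁻¹ ∈ N := mul_mem (mul_mem hm hm') (inv_mem hm)
    exact mul_mem h5 (inv_mem hm')


theorem nil_zero {F A : Type*} [Field F] [Ring A] [Algebra F A] {α β : F} {E X : A} (hE : E * E = 0) (hE0 : E ≠ 0)
    (hX : X * X = 0) (h : X = α • 1 + β • E) : α = 0 := by
  have h1 : X * E = α • E := by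
    rw [h, add_mul, smul_mul_assoc, smul_mul_assoc, one_mul, hE, smul_zero, add_zero]
  have h2 : X * (X * E) = (α * α) • E := by
    rw [h1, mul_smul_comm, h1, smul_smul]
  rw [← mul_assoc, hX, zero_mul] at h2
  rcases smul_eq_zero.1 h2.symm with h3 | h3
  · exact mul_self_eq_zero.1 h3
  · exact absurd h3 hE0

section main

variable {K : Type u} [Field K] {V : Type v} [AddCommGroup V] [Module K V]

theorem cj_eq_one {u : (R K V)ˣ} (h : cj K V u = 1) : ∃ μ : K, (u : R K V) = μ • (1 : R K V) := by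
  have h1 : (u : R K V) ∈ Subalgebra.center K (R K V) := by
    rw [Subalgebra.mem_center_iff]
    intro X
    have h2 : cj K V u X = X := by rw [h]; rfl
    rw [cj_apply] at h2
    conv_lhs => rw [← h2]
    rw [mul_assoc, Units.inv_mul, mul_one]
  rw [Algebra.IsCentral.center_eq_bot, Algebra.mem_bot] at h1
  obtain ⟨μ, hμ⟩ := h1
  exact ⟨μ, by rw [← hμ, Algebra.algebraMap_eq_smul_one]⟩

theorem cj_eq_cj {u w : (R K V)ˣ} (h : cj K V u = cj K V w) : ∃ μ : K, (u : R K V) = μ • (w : R K V) := by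
  have h1 : cj K V (u * w⁻¹) = 1 := by rw [map_mul, map_inv, h, mul_inv_cancel]
  obtain ⟨μ, hμ⟩ := cj_eq_one h1
  refine ⟨μ, ?_⟩
  have h2 : (u : R K V) = ((u * w⁻¹ : (R K V)ˣ) : R K V) * w := by
    rw [Units.val_mul, mul_assoc, Units.inv_mul, mul_one]
  rw [h2, hμ, smul_mul_assoc, one_mul]

theorem cj_one_of_central {u : (R K V)ˣ} (h : ∀ X : R K V, (u : R K V) * X = X * u) : cj K V u = 1 := by
  apply Equiv.ext
  intro X
  rw [cj_apply, h X, mul_assoc, Units.mul_inv, mul_one]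
  rfl

/-- the image of a unit under an anti-automorphism, inverted -/
def kU (κ : Equiv.Perm (R K V)) (h1 : κ 1 = 1) (hκ : ∀ X Y, κ (X * Y) = κ Y * κ X) (y : (R K V)ˣ) : (R K V)ˣ where
  val := κ ((y⁻¹ : (R K V)ˣ) : R K V)
  inv := κ (y : R K V)
  val_inv := by rw [← hκ, Units.mul_inv, h1]
  inv_val := by rw [← hκ, Units.inv_mul, h1]

theorem kU_spec (κ : Equiv.Perm (R K V)) (h1 : κ 1 = 1) (hκ : ∀ X Y, κ (X * Y) = κ Y * κ X) (y : (R K V)ˣ) :
    κ * cj K V y = cj K V (kU κ h1 hκ y) * κ := by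
  apply Equiv.ext
  intro X
  change κ (y * X * (y⁻¹ : (R K V)ˣ)) = κ ((y⁻¹ : (R K V)ˣ) : R K V) * κ X * κ (y : R K V)
  rw [hκ, hκ, mul_assoc]

variable [Module.Finite K V]

/-- the homomorphism `SL_n(K) → R^×` given by a basis -/
noncomputable def psi {n : ℕ} (b : Basis (Fin n) K V) : SpecialLinearGroup (Fin n) K →* (R K V)ˣ :=
  (Units.map ((Matrix.toLinAlgEquiv b : Matrix (Fin n) (Fin n) K ≃ₐ[K] (V →ₗ[K] V)) : _ →* _)).comp
    Matrix.SpecialLinearGroup.toGL

theorem psi_val {n : ℕ} (b : Basis (Fin n) K V) (A : SpecialLinearGroup (Fin n) K) :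
    ((psi b A : (R K V)ˣ) : R K V) = Matrix.toLinAlgEquiv b (A : Matrix (Fin n) (Fin n) K) := rfl

theorem psi_det {n : ℕ} (b : Basis (Fin n) K V) (A : SpecialLinearGroup (Fin n) K) :
    LinearMap.det ((psi b A : (R K V)ˣ) : R K V) = 1 := by
  rw [psi_val]
  change LinearMap.det (Matrix.toLin b b (A : Matrix (Fin n) (Fin n) K)) = 1
  rw [LinearMap.det_toLin, A.2]

theorem psi_surj {n : ℕ} (b : Basis (Fin n) K V) (u : (R K V)ˣ) (hu : LinearMap.det (u : R K V) = 1) :
    ∃ A, psi b A = u := by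
  have hd : (LinearMap.toMatrixAlgEquiv b (u : R K V)).det = 1 := by
    have h1 := LinearMap.det_toMatrix b (u : R K V)
    rw [hu] at h1
    exact h1
  exact ⟨⟨_, hd⟩, Units.ext (Matrix.toLinAlgEquiv_toMatrixAlgEquiv b _)⟩

/-- matrix units in `R` -/
noncomputable def Eb {n : ℕ} (b : Basis (Fin n) K V) (i j : Fin n) : R K V :=
  Matrix.toLinAlgEquiv b (Matrix.single i j (1 : K))

theorem Eb_mul {n : ℕ} (b : Basis (Fin n) K V) (i j k : Fin n) : Eb b i j * Eb b j k = Eb b i k := by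
  rw [Eb, Eb, Eb]
  have h1 := map_mul (Matrix.toLinAlgEquiv b : Matrix (Fin n) (Fin n) K ≃ₐ[K] (V →ₗ[K] V)) (Matrix.single i j (1 : K))
    (Matrix.single j k (1 : K))
  rw [Matrix.single_mul_single_same, mul_one] at h1
  exact h1.symm

theorem Eb_mul_ne {n : ℕ} (b : Basis (Fin n) K V) {i j k l : Fin n} (h : j ≠ k) : Eb b i j * Eb b k l = 0 := by
  rw [Eb, Eb]
  have h1 := map_mul (Matrix.toLinAlgEquiv b : Matrix (Fin n) (Fin n) K ≃ₐ[K] (V →ₗ[K] V)) (Matrix.single i j (1 : K))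
    (Matrix.single k l (1 : K))
  rw [Matrix.single_mul_single_of_ne _ _ _ _ h, map_zero] at h1
  exact h1.symm

theorem Eb_ne {n : ℕ} (b : Basis (Fin n) K V) (i j : Fin n) : Eb b i j ≠ 0 := by
  intro h
  rw [Eb] at h
  have h1 : Matrix.single i j (1 : K) = 0 :=
    (map_eq_zero_iff _ (Matrix.toLinAlgEquiv b : Matrix (Fin n) (Fin n) K ≃ₐ[K] (V →ₗ[K] V)).injective).1 h
  have h2 := congrFun (congrFun h1 i) j
  rw [Matrix.single_apply_same] at h2
  exact one_ne_zero h2

theorem psi_tr {n : ℕ} (b : Basis (Fin n) K V) {i j : Fin n} (h : i ≠ j) :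
    ((psi b (SpecialLinearGroup.transvection h (1 : K)) : (R K V)ˣ) : R K V) = 1 + Eb b i j := by
  rw [psi_val, SpecialLinearGroup.transvection_coe, map_add, map_one]
  rfl

theorem psi_tr_inv {n : ℕ} (b : Basis (Fin n) K V) {i j : Fin n} (h : i ≠ j) :
    (((psi b (SpecialLinearGroup.transvection h (1 : K)))⁻¹ : (R K V)ˣ) : R K V) = 1 - Eb b i j := by
  apply Units.inv_eq_of_mul_eq_one_right
  rw [psi_tr, mul_sub, mul_one, add_mul, one_mul, Eb_mul_ne b h.symm]
  abel

/-- commuting with all `E_ij`, `i ≠ j`, implies central -/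
theorem central_of_commute {n : ℕ} (b : Basis (Fin n) K V) (Y : R K V)
    (h : ∀ i j : Fin n, i ≠ j → Y * Eb b i j = Eb b i j * Y) (X : R K V) : Y * X = X * Y := by
  set φ : Matrix (Fin n) (Fin n) K ≃ₐ[K] (V →ₗ[K] V) := Matrix.toLinAlgEquiv b with hφ
  have h1 : φ.symm Y ∈ Set.range (Matrix.scalar (Fin n)) := by
    rw [Matrix.mem_range_scalar_iff_commute_single]
    intro i j hij
    apply φ.injective
    rw [map_mul, map_mul, AlgEquiv.apply_symm_apply]
    exact (h i j hij).symm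
  obtain ⟨r, hr⟩ := h1
  have h2 : Commute (φ.symm Y) (φ.symm X) := by
    rw [← hr]
    exact Matrix.scalar_commute r (fun r' => mul_comm _ _) _
  have h3 := congrArg φ h2.eq
  rw [map_mul, map_mul, AlgEquiv.apply_symm_apply, AlgEquiv.apply_symm_apply] at h3
  exact h3

theorem anti_false {n : ℕ} (hn : 3 ≤ n) (b : Basis (Fin n) K V) (S : Subgroup (Equiv.Perm (R K V)))
    (hS : Group.IsSolvable S) (κ : Equiv.Perm (R K V)) (hκS : κ ∈ S) (h0 : ∀ X Y, κ (X + Y) = κ X + κ Y)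
    (hm : ∀ X Y, κ (X * Y) = κ Y * κ X)
    (hall : ∀ g ∈ ((cj K V).comp (psi b)).range, g * κ * g⁻¹ ∈ S) : False := by
  have h3 : 3 ≤ Fintype.card (Fin n) := by rwa [Fintype.card_fin]
  have hκ1 : κ 1 = 1 := by
    have h1 := hm (κ.symm 1) 1
    rw [mul_one, Equiv.apply_symm_apply, mul_one] at h1
    exact h1.symm
  have hκ0 : κ 0 = 0 := by
    have h1 := h0 0 0
    rw [add_zero] at h1
    exact left_eq_add.1 h1
  set c : SpecialLinearGroup (Fin n) K →* Equiv.Perm (R K V) := (cj K V).comp (psi b) with hc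
  have hcA : ∀ A, c A = cj K V (psi b A) := fun A => rfl
  set N := comS c.range κ with hNdef
  have hNS : N ≤ S := comS_le hκS hall
  have hNIN : ∀ f ∈ N, ∃ y : (R K V)ˣ, f = cj K V y := by
    have h1 : N ≤ (cj K V).range := by
      rw [hNdef, comS, Subgroup.closure_le]
      rintro _ ⟨_, ⟨A, rfl⟩, rfl⟩
      rw [hcA, ← map_inv, mul_assoc (cj K V _), kU_spec κ hκ1 hm, mul_assoc, mul_inv_cancel_right, ← map_mul]
      exact MonoidHom.mem_range.2 ⟨_, rfl⟩
    intro f hf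
    obtain ⟨y, rfl⟩ := h1 hf
    exact ⟨y, rfl⟩
  have hNsol : Group.IsSolvable N := Group.isSolvable_of_isSolvable_injective (Subgroup.inclusion_injective hNS)
  have hN : (N.comap c).Normal := ⟨fun m hm g => by
    rw [Subgroup.mem_comap] at hm ⊢
    rw [map_mul, map_mul, map_inv]
    exact comS_norm (C := c.range) ⟨g, rfl⟩ hm⟩
  obtain ⟨i, j, k, hij, hik, hjk⟩ : ∃ i j k : Fin n, i ≠ j ∧ i ≠ k ∧ j ≠ k :=
    ⟨⟨0, by omega⟩, ⟨1, by omega⟩, ⟨2, by omega⟩, by simp [Fin.ext_iff], by simp [Fin.ext_iff], by simp [Fin.ext_iff]⟩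
  -- `N ∩ c(SL) = 1`
  have hNc : ∀ A, c A ∈ N → c A = 1 := by
    rcases sl_alt h3 (N.comap c) with h | h
    · intro A hA
      have h4 : A ∈ Subgroup.center (SpecialLinearGroup (Fin n) K) := h hA
      rw [hcA]
      apply cj_one_of_central
      apply central_of_commute b
      intro i j hij
      have h5 := Subgroup.mem_center_iff.1 h4 (SpecialLinearGroup.transvection hij (1 : K))
      have h6 := congrArg (fun z => ((psi b z : (R K V)ˣ) : R K V)) h5
      simp only [map_mul, Units.val_mul, psi_tr] at h6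
      rw [add_mul, mul_add, one_mul, mul_one] at h6
      exact (add_left_cancel h6).symm
    · exfalso
      have h4 : ∀ A, c A ∈ N := fun A => by
        have h5 : A ∈ N.comap c := by rw [h]; trivial
        exact h5
      have h5 : ∀ k, derivedSeries (SpecialLinearGroup (Fin n) K) k = ⊤ := by
        intro k
        induction k with
        | zero => exact derivedSeries_zero _
        | succ k ih =>
          rw [derivedSeries_succ, ih, ← _root_.commutator_def]
          exact LieClassical.SLGen.commutator_eq_top h3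
      obtain ⟨m, hm'⟩ := hNsol.solvable
      have h6 := map_derivedSeries_le_derivedSeries (c.codRestrict N h4) m
      rw [h5, hm', le_bot_iff, Subgroup.map_eq_bot_iff] at h6
      have h7 : ∀ A, c A = 1 := fun A => congrArg Subtype.val (MonoidHom.mem_ker.1 (h6 (Subgroup.mem_top A)))
      obtain ⟨μ, hμ⟩ := cj_eq_one (h7 (SpecialLinearGroup.transvection hij (1 : K)))
      rw [psi_tr] at hμ
      have h8 := congrArg (fun z => z * Eb b j i) hμ
      have h9 := congrArg (fun z => Eb b j i * z) hμ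
      simp only [add_mul, mul_add, one_mul, mul_one, smul_mul_assoc, mul_smul_comm, Eb_mul] at h8 h9
      have h10 := add_left_cancel (h8.trans h9.symm)
      have h11 : Eb b i i * Eb b i i = Eb b i i * Eb b j j := by rw [h10]
      rw [Eb_mul, Eb_mul_ne b hij] at h11
      exact Eb_ne b i i h11
  -- `N` commutes with `c(SL)`
  have hcomm : ∀ y : (R K V)ˣ, cj K V y ∈ N → ∀ A, c A * cj K V y = cj K V y * c A := by
    intro y hy A
    have h4 : c A * cj K V y * (c A)⁻¹ * (cj K V y)⁻¹ ∈ N := mul_mem (comS_norm (C := c.range) ⟨A, rfl⟩ hy) (inv_mem hy)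
    have h5 : LinearMap.det ((psi b A * y * (psi b A)⁻¹ * y⁻¹ : (R K V)ˣ) : R K V) = 1 := by
      have h6 : ∀ u : (R K V)ˣ, LinearMap.det (u : R K V) * LinearMap.det ((u⁻¹ : (R K V)ˣ) : R K V) = 1 := fun u => by
        rw [← map_mul, Units.mul_inv, map_one]
      rw [Units.val_mul, Units.val_mul, Units.val_mul, map_mul, map_mul, map_mul]
      have h7 := h6 (psi b A)
      have h8 := h6 y
      linear_combination h7 + LinearMap.det (((psi b A)) : R K V) * LinearMap.det ((((psi b A))⁻¹ : (R K V)ˣ) : R K V) * h8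
    obtain ⟨B, hB⟩ := psi_surj b _ h5
    have h6 : c A * cj K V y * (c A)⁻¹ * (cj K V y)⁻¹ = c B := by
      rw [hcA, hcA, hB, map_mul, map_mul, map_mul, map_inv, map_inv]
    rw [h6] at h4
    rw [hNc B h4, mul_inv_eq_one, mul_inv_eq_iff_eq_mul] at h6
    exact h6
  have hNbot : ∀ f ∈ N, f = 1 := by
    intro f hf
    obtain ⟨y, rfl⟩ := hNIN f hf
    apply cj_one_of_central
    apply central_of_commute b
    intro i j hij
    have h4 := hcomm y hf (SpecialLinearGroup.transvection hij (1 : K))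
    rw [hcA, ← map_mul, ← map_mul] at h4
    obtain ⟨μ, hμ⟩ := cj_eq_cj h4.symm
    rw [Units.val_mul, Units.val_mul, psi_tr] at hμ
    -- `y (1 + E) = μ (1 + E) y`
    have h5 : ((y⁻¹ : (R K V)ˣ) : R K V) * Eb b i j * y * (((y⁻¹ : (R K V)ˣ) : R K V) * Eb b i j * y) = 0 := by
      calc ((y⁻¹ : (R K V)ˣ) : R K V) * Eb b i j * y * (((y⁻¹ : (R K V)ˣ) : R K V) * Eb b i j * y)
          = ((y⁻¹ : (R K V)ˣ) : R K V) * Eb b i j * (y * ((y⁻¹ : (R K V)ˣ) : R K V)) * Eb b i j * y := by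
            simp only [mul_assoc]
        _ = ((y⁻¹ : (R K V)ˣ) : R K V) * (Eb b i j * Eb b i j) * y := by rw [Units.mul_inv]; simp only [mul_assoc, one_mul]
        _ = 0 := by rw [Eb_mul_ne b hij.symm, mul_zero, zero_mul]
    have h6 : ((y⁻¹ : (R K V)ˣ) : R K V) * Eb b i j * y ≠ 0 := by
      intro h
      apply Eb_ne b i j
      calc Eb b i j = (y * ((y⁻¹ : (R K V)ˣ) : R K V)) * Eb b i j * (y * ((y⁻¹ : (R K V)ˣ) : R K V)) := by
            rw [Units.mul_inv, one_mul, mul_one]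
        _ = y * (((y⁻¹ : (R K V)ˣ) : R K V) * Eb b i j * y) * ((y⁻¹ : (R K V)ˣ) : R K V) := by simp only [mul_assoc]
        _ = 0 := by rw [h, mul_zero, zero_mul]
    have h7 : Eb b i j = (μ - 1) • (1 : R K V) + μ • (((y⁻¹ : (R K V)ˣ) : R K V) * Eb b i j * y) := by
      have h8 := congrArg (fun z => ((y⁻¹ : (R K V)ˣ) : R K V) * z) hμ
      simp only [mul_add, add_mul, mul_one, one_mul, mul_smul_comm, ← mul_assoc, Units.inv_mul] at h8
      rw [smul_add] at h8
      rw [sub_smul, one_smul, sub_add_eq_add_sub, ← h8]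
      abel
    have h8 := nil_zero h5 h6 (Eb_mul_ne b hij.symm) h7
    rw [h8, zero_smul, zero_add, sub_eq_zero.1 h8, one_smul] at h7
    have h9 := congrArg (fun z => (y : R K V) * z) h7
    simp only [← mul_assoc, Units.mul_inv, one_mul] at h9
    exact h9
  -- `κ` commutes with `c(SL)`
  have hκE : ∀ i j : Fin n, i ≠ j → κ (Eb b i j) = - Eb b i j := by
    intro i j hij
    have h4 : ∀ A, c A * κ = κ * c A := by
      intro A
      have h5 : c A * κ * (c A)⁻¹ * κ⁻¹ ∈ N := Subgroup.subset_closure ⟨c A, ⟨A, rfl⟩, rfl⟩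
      have h6 := hNbot _ h5
      rw [mul_inv_eq_one, mul_inv_eq_iff_eq_mul] at h6
      exact h6
    have h5 := h4 (SpecialLinearGroup.transvection hij (1 : K))⁻¹
    rw [hcA, kU_spec κ hκ1 hm] at h5
    obtain ⟨μ, hμ⟩ := cj_eq_cj (mul_right_cancel h5).symm
    rw [map_inv] at hμ
    have h6 : (kU κ hκ1 hm (psi b (SpecialLinearGroup.transvection hij (1 : K)))⁻¹ : R K V) =
        κ ((psi b (SpecialLinearGroup.transvection hij (1 : K)) : (R K V)ˣ) : R K V) := by
      change κ _ = κ _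
      rw [inv_inv]
    rw [h6, psi_tr, psi_tr_inv, h0, hκ1] at hμ
    have h7 : κ (Eb b i j) = (μ - 1) • (1 : R K V) + (-μ) • Eb b i j := by
      rw [smul_sub] at hμ
      rw [sub_smul, one_smul, neg_smul, sub_add_eq_add_sub, ← sub_eq_add_neg, ← hμ]
      abel
    have h8 : κ (Eb b i j) * κ (Eb b i j) = 0 := by
      rw [← hm, Eb_mul_ne b hij.symm, hκ0]
    have h9 := nil_zero (Eb_mul_ne b hij.symm) (Eb_ne b i j) h8 h7
    rw [h7, h9, zero_smul, zero_add, sub_eq_zero.1 h9, neg_smul, one_smul]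
  have h4 := hm (Eb b i j) (Eb b j k)
  rw [Eb_mul, hκE i k hik, hκE i j hij, hκE j k hjk, neg_mul_neg, Eb_mul_ne b hik.symm, neg_eq_zero] at h4
  exact Eb_ne b i k h4

/-- **L-T3**: if three conjugates kill `S ∩ RP` then four kill `S` (`dim V ≥ 3`). -/
theorem five_of_three (h3 : 3 ≤ finrank K V) (S : Subgroup (Equiv.Perm (R K V))) (hSA : S ≤ RA K V)
    (hS : Group.IsSolvable S) (x : Fin 3 → (R K V)ˣ) (hxd : ∀ i, LinearMap.det ((x i : (R K V)ˣ) : R K V) = 1)
    (hx : ∀ f ∈ S ⊓ RP K V, (∀ i, cj K V (x i) * f * (cj K V (x i))⁻¹ ∈ S) → f = 1) : Five S := by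
  set b := Module.finBasis K V
  have hanti : ∀ f ∈ S, f ∉ RP K V → (∀ X Y, f (X + Y) = f X + f Y) ∧ ∀ X Y, f (X * Y) = f Y * f X := by
    intro f hf hfR
    obtain ⟨h1, h2 | h2⟩ := hSA hf
    · exact absurd ⟨h1, h2⟩ hfR
    · exact ⟨h1, h2⟩
  have h2 : ∀ f ∈ S, ∀ g ∈ S, f ∉ RP K V → g ∉ RP K V → f * g ∈ RP K V := by
    intro f hf g hg hfR hgR
    obtain ⟨hf0, hf1⟩ := hanti f hf hfR
    obtain ⟨hg0, hg1⟩ := hanti g hg hgR
    refine ⟨fun X Y => ?_, fun X Y => ?_⟩
    · change f (g (X + Y)) = f (g X) + f (g Y)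
      rw [hg0, hf0]
    · change f (g (X * Y)) = f (g X) * f (g Y)
      rw [hg1, hf1]
  obtain ⟨_, ⟨A, rfl⟩, hy⟩ := exists_fourth S (RP K V) h2 (fun i => cj K V (x i)) (fun f hf hfR => hx f ⟨hf, hfR⟩)
    (((cj K V).comp (psi b)).range : Set (Equiv.Perm (R K V))) (one_mem _) (by
    intro κ hκ hκR
    by_contra hcon
    push Not at hcon
    obtain ⟨h4, h5⟩ := hanti κ hκ hκR
    exact anti_false h3 b S hS κ hκ h4 h5 hcon)
  refine ⟨Fin.cons (psi b A) x, fun i => ?_, fun f hf h => hy f hf (fun i => ?_) ?_⟩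
  · refine Fin.cases ?_ (fun j => ?_) i
    · rw [Fin.cons_zero]
      exact psi_det b A
    · rw [Fin.cons_succ]
      exact hxd j
  · have h4 := h i.succ
    rwa [Fin.cons_succ] at h4
  · have h4 := h 0
    rwa [Fin.cons_zero] at h4

end main

end Cfsg.Agent.H55.FC
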